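import Cfsg.Agent.H908.RIM.Eng
import Cfsg.Agent.Nodes.RGDLift
import Cfsg.Agent.H622.Levi.Cusp

/-!
# The data of the cover and the central elements of `M_J` (helper908, S4816)

`π : E →* Y` surjective, central kernel of order prime to `p`, `Y` with a root group datum `(T, X)`;
`(T.comap π, lft p π ∘ X)` is the datum of `E` (`Nodes.RGDLift.rgd_lift`).

* `MJ_map`, `PJ_lift`, `PJ_index_lift`, `GG_lift`, `card_lift`, `ker_le_T`;
* `lift_all` : all of it in one statement;
* `CenExp K e` : central elements of `M_K` satisfy `z ^ e = 1`; `cenExp_chain`, `cenExp_node`, `CenExp.union`;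
* `eq_one_of_cenExp` : `Z ∩ M_J = 1`.
-/

set_option autoImplicit false
set_option linter.unusedSectionVars false

open scoped ComplexConjugate
open Cfsg

namespace Cfsg.Agent.H908.RIM

open Cfsg.Agent.Characters Cfsg.Agent.H53.HC CoxeterSystem Cfsg.Agent.ChevalleyStructure.CoxeterGeom Cfsg.Agent.Tits.Roots
  Cfsg.Agent.Tits.Core Cfsg.Agent.Tits.Exchange Cfsg.Agent.Nodes.Reps Cfsg.Agent.Nodes.BNOf Cfsg.Agent.Nodes.StabComb
  Cfsg.Agent.Nodes.Bruhat Cfsg.Agent.Nodes.OppDec Cfsg.Agent.Nodes.LeviDec Cfsg.Agent.Nodes.RGDLift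
open Cfsg.Agent.LieRecognition.BNCox (cA)

section lift

variable {I W Y E : Type*} [Fintype I] [DecidableEq I] [Group W] [Group Y] [Group E] [Finite E]
  {M : CoxeterMatrix I} {cs : CoxeterSystem M W} {A : I → I → ℤ} {h : IsCartan M A} {p : ℕ} [Fact p.Prime]
  {T : Subgroup Y} {n : I → Y} {X : (I → ℤ) → Subgroup Y} {π : E →* Y} [Finite W]

theorem eq_comap {H' : Subgroup E} {H : Subgroup Y} (hker : π.ker ≤ H') (hm : H'.map π = H) : H' = H.comap π := by
  rw [← hm, Subgroup.comap_map_eq_self hker]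

theorem Sup_map (hc : π.ker ≤ Subgroup.center E) (hk : (Nat.card π.ker).Coprime p) (hs : Function.Surjective π)
    (R : RGD cs h p T n X) {S : Set (I → ℤ)} (hS : ∀ x ∈ S, IsRoot cs h x) :
    (RGD.Sup (fun x => lft p π (X x)) S).map π = RGD.Sup X S := by
  apply le_antisymm
  · rw [Subgroup.map_le_iff_le_comap]
    refine RGD.Sup_le fun x hx => ?_
    rw [← Subgroup.map_le_iff_le_comap, map_lft hc hk hs (R.pgrp' (hS x hx))]
    exact RGD.le_Sup hx
  · refine RGD.Sup_le fun x hx => ?_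
    rw [← map_lft hc hk hs (R.pgrp' (hS x hx))]
    exact Subgroup.map_mono (RGD.le_Sup (X := fun x => lft p π (X x)) hx)

theorem ker_le_T : π.ker ≤ T.comap π := fun x hx => by
  rw [Subgroup.mem_comap, MonoidHom.mem_ker.1 hx]
  exact one_mem _

theorem T_map (hs : Function.Surjective π) : (T.comap π).map π = T := Subgroup.map_comap_eq_self_of_surjective hs T

theorem MJ_map (hc : π.ker ≤ Subgroup.center E) (hk : (Nat.card π.ker).Coprime p) (hs : Function.Surjective π)
    (R : RGD cs h p T n X) (J : Set I) : (MJ cs h (fun x => lft p π (X x)) J).map π = MJ cs h X J :=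
  Sup_map hc hk hs R fun _ hx => hx.1

theorem LJ_lift (hc : π.ker ≤ Subgroup.center E) (hk : (Nat.card π.ker).Coprime p) (hs : Function.Surjective π)
    (R : RGD cs h p T n X) (J : Set I) :
    LJ cs h (T.comap π) (fun x => lft p π (X x)) J = (LJ cs h T X J).comap π := by
  refine eq_comap (ker_le_T.trans T_le_LJ) ?_
  rw [LJ_eq, Subgroup.map_sup, T_map hs, MJ_map hc hk hs R, LJ_eq]

theorem PJ_lift (hc : π.ker ≤ Subgroup.center E) (hk : (Nat.card π.ker).Coprime p) (hs : Function.Surjective π)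
    (R : RGD cs h p T n X) (J : Set I) :
    PJ cs h (T.comap π) (fun x => lft p π (X x)) J = (PJ cs h T X J).comap π := by
  refine eq_comap (ker_le_T.trans (T_le_LJ.trans LJ_le_PJ)) ?_
  change (LJ cs h (T.comap π) (fun x => lft p π (X x)) J ⊔ RGD.Sup (fun x => lft p π (X x)) (NotJ cs h J)).map π =
    LJ cs h T X J ⊔ RGD.Sup X (NotJ cs h J)
  rw [Subgroup.map_sup, Sup_map hc hk hs R fun _ hx => hx.1, LJ_eq, Subgroup.map_sup, T_map hs, MJ_map hc hk hs R, LJ_eq]

theorem PJ_index_lift (hc : π.ker ≤ Subgroup.center E) (hk : (Nat.card π.ker).Coprime p) (hs : Function.Surjective π)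
    (R : RGD cs h p T n X) (J : Set I) :
    (PJ cs h (T.comap π) (fun x => lft p π (X x)) J).index = (PJ cs h T X J).index := by
  rw [PJ_lift hc hk hs R, Subgroup.index_comap_of_surjective _ hs]

theorem GG_lift (hc : π.ker ≤ Subgroup.center E) (hk : (Nat.card π.ker).Coprime p) (hs : Function.Surjective π)
    (R : RGD cs h p T n X) (hG : GG cs h T X = ⊤) : GG cs h (T.comap π) (fun x => lft p π (X x)) = ⊤ := by
  have h1 : GG cs h (T.comap π) (fun x => lft p π (X x)) = (GG cs h T X).comap π := by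
    refine eq_comap (ker_le_T.trans le_sup_left) ?_
    have h2 := Sup_map hc hk hs R (S := {x | IsRoot cs h x}) fun _ hx => hx
    unfold GG
    rw [Subgroup.map_sup, T_map hs, h2]
  rw [h1, hG, Subgroup.comap_top]

theorem card_lift (hc : π.ker ≤ Subgroup.center E) (hk : (Nat.card π.ker).Coprime p) (hs : Function.Surjective π)
    {P : Subgroup Y} (hP : IsPGroup p P) : Nat.card ↥(lft p π P) = Nat.card P := by
  have h1 := map_lft hc hk hs hP
  have h4 : Nat.card ↥(lft p π P) = Nat.card ↥((lft p π P).map π) := by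
    refine Nat.card_congr (Equiv.ofBijective (π.subgroupMap (lft p π P)) ⟨?_, π.subgroupMap_surjective _⟩)
    rintro ⟨x, hx⟩ ⟨y, hy⟩ hxy
    have hxy' : π x = π y := congrArg Subtype.val hxy
    have h2 : π (x⁻¹ * y) = 1 := by rw [map_mul, map_inv, hxy', inv_mul_cancel]
    have h3 := eq_one_of_mem_lft hc hk hP (mul_mem (inv_mem hx) hy) h2
    exact Subtype.ext (inv_mul_eq_one.1 h3)
  rw [h4, h1]

/-- **The root group datum of the cover.** -/
theorem lift_all (hc : π.ker ≤ Subgroup.center E) (hk : (Nat.card π.ker).Coprime p) (hs : Function.Surjective π)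
    (R : RGD cs h p T n X) (hG : GG cs h T X = ⊤) :
    ∃ n' : I → E, RGD cs h p (T.comap π) n' (fun x => lft p π (X x)) ∧
      GG cs h (T.comap π) (fun x => lft p π (X x)) = ⊤ ∧
      (∀ J : Set I, (PJ cs h (T.comap π) (fun x => lft p π (X x)) J).index = (PJ cs h T X J).index) ∧
      (∀ i, Nat.card ↥(lft p π (X (sr i))) = Nat.card (X (sr i))) := by
  choose n' hn' using fun i => hs (n i)
  exact ⟨n', rgd_lift hc hk hs R hn', GG_lift hc hk hs R hG, PJ_index_lift hc hk hs R,
    fun i => card_lift hc hk hs (R.pgrp' (isRoot_sr cs h i))⟩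

end lift

section cen

variable {I : Type*} {W : Type*} {Y : Type*} [Fintype I] [DecidableEq I] [Group W] [Group Y] {M : CoxeterMatrix I}
  {cs : CoxeterSystem M W} {A : I → I → ℤ} {h : IsCartan M A} {p : ℕ} {T : Subgroup Y} {n : I → Y}
  {X : (I → ℤ) → Subgroup Y}

/-- central elements of `M_K` have order dividing `e` -/
def CenExp (cs : CoxeterSystem M W) (h : IsCartan M A) (X : (I → ℤ) → Subgroup Y) (K : Set I) (e : ℕ) : Prop :=
  ∀ z ∈ MJ cs h X K, (∀ y ∈ MJ cs h X K, z * y = y * z) → z ^ e = 1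

open Cfsg.Agent.H622.Levi in
theorem cenExp_of_co [Finite W] {m : ℕ} {F : Type} [Field F] [Finite F] {k : Fin m ↪ I}
    {φ : Matrix.SpecialLinearGroup (Fin (m + 1)) F →* Y} (C : Co X k F φ) (hk : ∀ i j, M (k i) (k j) = cA m i j)
    (hm : 0 < m) : CenExp cs h X (Set.range k) (Nat.gcd (m + 1) (Nat.card F - 1)) := by
  intro z hz hc
  have h1 : φ.range = Cfsg.Agent.H53.HC.MJ cs h X (Set.range k) := C.range (cs := cs) (h := h) hk hm
  rw [← h1] at hz
  obtain ⟨g, rfl⟩ := hz
  have h2 := mem_center_of_ker hm C.ker (g := g) fun s => hc (φ s) (h1 ▸ ⟨s, rfl⟩)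
  rw [Matrix.SpecialLinearGroup.mem_center_iff] at h2
  obtain ⟨c, hc1, hc2⟩ := h2
  rw [Fintype.card_fin] at hc1
  have hc0 : c ≠ 0 := by
    rintro rfl
    rw [zero_pow (by omega)] at hc1
    exact zero_ne_one hc1
  have : Fintype F := Fintype.ofFinite F
  have hc3 : c ^ (Nat.card F - 1) = 1 := by
    rw [Nat.card_eq_fintype_card]
    exact FiniteField.pow_card_sub_one_eq_one c hc0
  have hc4 : c ^ Nat.gcd (m + 1) (Nat.card F - 1) = 1 :=
    orderOf_dvd_iff_pow_eq_one.1 (Nat.dvd_gcd (orderOf_dvd_of_pow_eq_one hc1) (orderOf_dvd_of_pow_eq_one hc3))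
  rw [← map_pow]
  have h3 : g ^ Nat.gcd (m + 1) (Nat.card F - 1) = 1 := by
    apply Subtype.ext
    rw [Matrix.SpecialLinearGroup.coe_pow, ← hc2, ← map_pow, hc4, map_one]
    rfl
  rw [h3, map_one]

variable (R : RGD cs h p T n X)

include R

open Cfsg.Agent.H622.Levi in
theorem cenExp_chain [Finite W] [Finite Y] {m : ℕ} (hm : 2 ≤ m) (k : Fin m ↪ I)
    (hk : ∀ i j, M (k i) (k j) = cA m i j) {q : ℕ} (i₀ : Fin m) (hq : Nat.card (X (sr (k i₀))) = q) :
    CenExp cs h X (Set.range k) (Nat.gcd (m + 1) (q - 1)) := by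
  obtain ⟨F, _, _, φ, C⟩ := exists_co R hm k hk
  rw [← hq, C.card i₀]
  exact cenExp_of_co C hk (by omega)

open Cfsg.Agent.H622.Levi in
theorem cenExp_node [Finite W] [Finite Y] (i j : I) (hij : M i j = 3) {q : ℕ}
    (hq : Nat.card (X (sr i)) = q) : CenExp cs h X {i} (Nat.gcd 2 (q - 1)) := by
  obtain ⟨F, _, _, φ, C⟩ := exists_co_one R i j hij
  let k : Fin 1 ↪ I := ⟨fun _ => i, fun a b _ => Subsingleton.elim a b⟩
  have hk : Set.range k = {i} := by
    ext x
    constructor
    · rintro ⟨_, rfl⟩; rfl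
    · rintro rfl; exact ⟨0, rfl⟩
  have C' : Co X k F φ := C
  have hkM : ∀ a b, M (k a) (k b) = cA 1 a b := by
    intro a b
    rw [Subsingleton.elim a b, M.diagonal, CoxeterMatrix.diagonal]
  rw [← hk, ← hq, show Nat.card (X (sr i)) = Nat.card F from C'.card 0]
  exact cenExp_of_co C' hkM (by norm_num)

theorem CenExp.union [Finite W] {K K' : Set I} (ho : Orth A K K') {e e' : ℕ} (h1 : CenExp cs h X K e)
    (h2 : CenExp cs h X K' e') : CenExp cs h X (K ∪ K') (e * e') := by
  intro z hz hc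
  have hcomm := ho.comm R
  have hMJ := ho.MJ_union (cs := cs) (h := h) (X := X)
  have hle1 : MJ cs h X K ≤ MJ cs h X (K ∪ K') := by rw [hMJ]; exact le_sup_left
  have hle2 : MJ cs h X K' ≤ MJ cs h X (K ∪ K') := by rw [hMJ]; exact le_sup_right
  have hle : MJ cs h X K ≤ Subgroup.normalizer (MJ cs h X K' : Set Y) := by
    intro a ha
    rw [Subgroup.mem_normalizer_iff]
    intro b
    constructor
    · intro hb
      rw [hcomm a ha b hb, mul_inv_cancel_right]
      exact hb
    · intro hb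
      have h1 := hcomm a⁻¹ (inv_mem ha) _ hb
      have h3 : b * a⁻¹ = (a * b * a⁻¹) * a⁻¹ := by rw [← h1]; group
      have h4 : b = a * b * a⁻¹ := mul_right_cancel h3
      rw [h4]
      exact hb
  have hz' : z ∈ ((MJ cs h X K ⊔ MJ cs h X K' : Subgroup Y) : Set Y) := by rw [← hMJ]; exact hz
  rw [Subgroup.coe_mul_of_left_le_normalizer_right _ _ hle] at hz'
  obtain ⟨a, ha, b, hb, rfl⟩ := hz'
  have ha1 : a ^ e = 1 := by
    refine h1 a ha fun y hy => ?_
    have h3 := hc y (hle1 hy)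
    have h4 := hcomm y hy b hb
    have h5 : a * y * b = y * a * b := by rw [mul_assoc, h4, ← mul_assoc]; simpa [mul_assoc] using h3
    exact mul_right_cancel h5
  have hb1 : b ^ e' = 1 := by
    refine h2 b hb fun y hy => ?_
    have h3 := hc y (hle2 hy)
    have h4 := hcomm a ha y hy
    have h5 : a * (b * y) = a * (y * b) := by
      have h6 : a * (b * y) = a * b * y := by group
      have h7 : a * (y * b) = a * y * b := by group
      rw [h6, h7, h4]
      simpa [mul_assoc] using h3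
    exact mul_left_cancel h5
  have hab : Commute a b := hcomm a ha b hb
  rw [hab.mul_pow, pow_mul, ha1, one_pow, mul_comm e e', pow_mul, hb1, one_pow, one_mul]

omit R in
/-- central elements of order prime to `e` do not lie in `M_J` -/
theorem eq_one_of_cenExp {J : Set I} {e : ℕ} (he : CenExp cs h X J e) {Z : Subgroup Y} (hZ : Z ≤ Subgroup.center Y)
    [Finite Z] (hco : (Nat.card Z).Coprime e) : ∀ z ∈ Z, z ∈ MJ cs h X J → z = 1 := by
  intro z hz hm
  have h1 := he z hm fun y _ => (Subgroup.mem_center_iff.1 (hZ hz) y).symm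
  have h2 : z ^ Nat.card Z = 1 := by
    have h3 : (⟨z, hz⟩ : Z) ^ Nat.card Z = 1 := pow_card_eq_one'
    have h4 := congrArg Subtype.val h3
    rwa [SubgroupClass.coe_pow, OneMemClass.coe_one] at h4
  have h3 : z ^ Nat.gcd (Nat.card Z) e = 1 :=
    orderOf_dvd_iff_pow_eq_one.1 (Nat.dvd_gcd (orderOf_dvd_of_pow_eq_one h2) (orderOf_dvd_of_pow_eq_one h1))
  rwa [hco, pow_one] at h3

end cen

end Cfsg.Agent.H908.RIM
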