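import Cfsg.Agent.H53.HC.Asm
import Cfsg.Agent.Characters.Linear

/-!
# Irreducible characters over a central character from a root group datum (helper908, S4816)

`Y` has a root group datum, `Z ≤ T` is central, `l : Z →* ℂˣ`.

* `exists_prod_char'` : product of irreducible characters of commuting subgroups which agree on the intersection;
* `exists_irr_over` : `θ` a cuspidal irreducible character of `M_J`, not fixed by the elements permuting the simple roots of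
  `J`, `θ z = θ 1 * l z` for `z ∈ Z ∩ M_J`: an irreducible character over `l` of degree divisible by `|Y : P_J| θ(1)`;
* `exists_irr_one_over`, `exists_irr_free_over` : the forms for one component of type `A_2` and for `J` which is not permuted.
-/

set_option autoImplicit false
set_option linter.unusedSectionVars false

open scoped ComplexConjugate
open Cfsg

namespace Cfsg.Agent.H908.RIM

open Cfsg.Agent.OddOrderCharacters.Clifford Cfsg.Agent.Characters Cfsg.Agent.H53.HC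
  Cfsg.Agent.OddOrderCharacters.IndRes

section grp

variable {G : Type*} [Group G]

/-- **Product of irreducible characters of commuting subgroups** which agree on the intersection. -/
theorem exists_prod_char' [Finite G] {H K : Subgroup G} (hc : ∀ a ∈ H, ∀ b ∈ K, a * b = b * a)
    {α : H → ℂ} {β : K → ℂ} (hα : IsIrrCharacter H α) (hβ : IsIrrCharacter K β)
    (hz : ∀ z : G, ∀ h1 : z ∈ H, ∀ h2 : z ∈ K, α ⟨z, h1⟩ * β ⟨z⁻¹, inv_mem h2⟩ = α 1 * β 1) :
    ∃ ψ : ↥(H ⊔ K) → ℂ, IsIrrCharacter _ ψ ∧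
      ∀ (a : G) (ha : a ∈ H) (b : G) (hb : b ∈ K),
        ψ ⟨a * b, mul_mem (le_sup_left (b := K) ha) (le_sup_right (a := H) hb)⟩ = α ⟨a, ha⟩ * β ⟨b, hb⟩ := by
  classical
  have : Fintype G := Fintype.ofFinite G
  let f : H × K →* ↥(H ⊔ K) :=
    { toFun := fun x => ⟨x.1 * x.2, mul_mem (le_sup_left (b := K) x.1.2) (le_sup_right (a := H) x.2.2)⟩
      map_one' := by
        apply Subtype.ext
        simp
      map_mul' := by
        rintro ⟨a, b⟩ ⟨c, d⟩
        apply Subtype.ext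
        change (a * c : G) * (b * d) = (a * b) * (c * d)
        have := hc c c.2 b b.2
        calc (a * c : G) * (b * d) = a * (c * b) * d := by group
          _ = a * (b * c) * d := by rw [this]
          _ = (a * b) * (c * d) := by group }
  have hf : Function.Surjective f := by
    rintro ⟨x, hx⟩
    have hle : H ≤ Subgroup.normalizer (K : Set G) := by
      intro a ha
      rw [Subgroup.mem_normalizer_iff]
      intro b
      constructor
      · intro hb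
        rw [hc a ha b hb, mul_inv_cancel_right]
        exact hb
      · intro hb
        have h1 := hc a⁻¹ (inv_mem ha) _ hb
        have h2 : b = a * b * a⁻¹ := by
          have h3 : a⁻¹ * (a * b * a⁻¹) = (a * b * a⁻¹) * a⁻¹ := h1
          have h4 : b * a⁻¹ = (a * b * a⁻¹) * a⁻¹ := by rw [← h3]; group
          exact mul_right_cancel h4
        rw [h2]
        exact hb
    have h1 : x ∈ ((H ⊔ K : Subgroup G) : Set G) := hx
    rw [Subgroup.coe_mul_of_left_le_normalizer_right _ _ hle] at h1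
    obtain ⟨a, ha, b, hb, rfl⟩ := h1
    exact ⟨(⟨a, ha⟩, ⟨b, hb⟩), rfl⟩
  have hirr : IsIrrCharacter (H × K) (fun x => α x.1 * β x.2) := Cfsg.Agent.S0188.isIrr_outer hα hβ
  obtain ⟨ψ, hψ, hψf⟩ := Cfsg.Agent.OddOrderCharacters.PF9.Reducible.exists_of_surjective f hf hirr (by
    rintro ⟨a, b⟩ hab
    have h1 : (a : G) * b = 1 := congrArg Subtype.val hab
    have h2 : (b : G) = (a : G)⁻¹ := (inv_eq_of_mul_eq_one_right h1).symm
    have haK : (a : G) ∈ K := by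
      rw [← inv_mem_iff, ← h2]
      exact b.2
    have e1 : b = ⟨(a : G)⁻¹, inv_mem haK⟩ := Subtype.ext h2
    change α a * β b = α 1 * β 1
    rw [e1]
    exact hz a a.2 haK)
  exact ⟨ψ, hψ, fun a ha b hb => hψf (⟨a, ha⟩, ⟨b, hb⟩)⟩

/-- a linear character is irreducible -/
theorem isIrr_lin {Z : Type*} [Group Z] [Finite Z] (l : Z →* ℂˣ) : IsIrrCharacter Z (fun z => ((l z : ℂˣ) : ℂ)) := by
  exact Cfsg.Agent.Characters.Linear.isIrrCharacter_hom l

end grp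

open CoxeterSystem Cfsg.Agent.ChevalleyStructure.CoxeterGeom Cfsg.Agent.Tits.Roots Cfsg.Agent.Tits.Core
  Cfsg.Agent.Tits.Exchange Cfsg.Agent.Nodes.Reps Cfsg.Agent.Nodes.BNOf Cfsg.Agent.Nodes.StabComb
  Cfsg.Agent.Nodes.Bruhat Cfsg.Agent.Nodes.OppDec Cfsg.Agent.Nodes.LeviDec

variable {I W Y : Type*} [Fintype I] [DecidableEq I] [Group W] [Group Y] {M : CoxeterMatrix I}
  {cs : CoxeterSystem M W} {A : I → I → ℤ} {h : IsCartan M A} {p : ℕ} {T : Subgroup Y} {n : I → Y}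
  {X : (I → ℤ) → Subgroup Y}

variable (R : RGD cs h p T n X)

include R

/-- **Irreducible characters over a central character** of a group with a root group datum, from the cuspidal characters
of `M_J`. -/
theorem exists_irr_over [Finite W] [Fintype Y] (hG : GG cs h T X = ⊤) (J : Set I)
    {θ : ↥(MJ cs h X J) → ℂ} (hθ : IsIrrCharacter _ θ)
    (hc : ∀ i ∈ J, ∀ [Fintype (rad cs h X J i)], ∑ u : rad cs h X J i, θ ⟨u, rad_le_MJ J i u.2⟩ = 0)
    (hs : ∀ w g (hg : Rp cs R.nsys w g), w ∉ WJ cs J → ∀ hw : Perm cs h J w,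
      ∃ (m : Y) (hm : m ∈ MJ cs h X J), θ ⟨g⁻¹ * m * g, conj_mem_MJ R hg hw hm⟩ ≠ θ ⟨m, hm⟩)
    {Z : Subgroup Y} (hZ : Z ≤ Subgroup.center Y) (hZT : Z ≤ T) (l : Z →* ℂˣ)
    (hd : ∀ z (hz : z ∈ Z) (hm : z ∈ MJ cs h X J), θ ⟨z, hm⟩ = θ 1 * l ⟨z, hz⟩) :
    ∃ χ : Y → ℂ, IsIrrCharacter Y χ ∧ (∀ z : Z, χ z = χ 1 * l z) ∧
      ∃ k : ℕ, 0 < k ∧ χ 1 = (PJ cs h T X J).index * (k * θ 1) := by
  classical
  have hcomm : ∀ a ∈ MJ cs h X J, ∀ b ∈ Z, a * b = b * a := fun a _ b hb => Subgroup.mem_center_iff.1 (hZ hb) a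
  obtain ⟨ψ₀, hψ₀, hψ₀v⟩ := exists_prod_char' hcomm hθ (isIrr_lin l) (by
    intro z h1 h2
    rw [hd z h2 h1]
    have e : (⟨z⁻¹, inv_mem h2⟩ : Z) = (⟨z, h2⟩ : Z)⁻¹ := rfl
    rw [e, map_inv, map_one, mul_assoc]
    simp)
  have hML : MJ cs h X J ≤ LJ cs h T X J := MJ_le_LJ J
  have hZL : Z ≤ LJ cs h T X J := hZT.trans T_le_LJ
  have hNL : MJ cs h X J ⊔ Z ≤ LJ cs h T X J := sup_le hML hZL
  have hLN : LJ cs h T X J ≤ Subgroup.normalizer ((MJ cs h X J ⊔ Z : Subgroup Y) : Set Y) := by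
    intro g hg
    have h0 : ∀ g ∈ LJ cs h T X J, ∀ x ∈ MJ cs h X J ⊔ Z, g * x * g⁻¹ ∈ MJ cs h X J ⊔ Z := by
      intro g hg x hx
      have hgn := LJ_le_normalizer_MJ R J hg
      have h2 : MJ cs h X J ⊔ Z ≤ (MJ cs h X J ⊔ Z).comap (MulAut.conj g).toMonoidHom := by
        refine sup_le ?_ ?_
        · intro y hy
          exact Subgroup.mem_sup_left ((Subgroup.mem_normalizer_iff.1 hgn y).1 hy)
        · intro y hy
          have h3 : g * y * g⁻¹ = y := by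
            rw [Subgroup.mem_center_iff.1 (hZ hy) g, mul_inv_cancel_right]
          rw [Subgroup.mem_comap]
          change g * y * g⁻¹ ∈ _
          rw [h3]
          exact Subgroup.mem_sup_right hy
      exact h2 hx
    rw [Subgroup.mem_normalizer_iff]
    intro x
    refine ⟨h0 g hg x, fun hx => ?_⟩
    have h1 := h0 g⁻¹ (inv_mem hg) _ hx
    have h2 : g⁻¹ * (g * x * g⁻¹) * g⁻¹⁻¹ = x := by group
    rwa [h2] at h1
  obtain ⟨ψ, hψ, ⟨k, hk, hk1⟩, c, s, hres, hsφ⟩ := exists_over hNL hLN hψ₀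
  obtain ⟨ψ', hψ', hψL, hψV⟩ := exists_infl R J hψ
  -- the restriction to `M_J`
  obtain ⟨ρ, hρ⟩ : ∃ ρ : (↥(MJ cs h X J ⊔ Z) → ℂ) → ↥(MJ cs h X J) → ℂ,
      ρ = fun φ x => φ ⟨x, Subgroup.mem_sup_left x.2⟩ := ⟨_, rfl⟩
  have hres' : ∀ (m : Y) (hm : m ∈ MJ cs h X J), ψ' ⟨m, LJ_le_PJ (MJ_le_LJ J hm)⟩ = c * ∑ φ ∈ s, ρ φ ⟨m, hm⟩ := by
    intro m hm
    rw [hψL, hρ]
    exact hres ⟨m, Subgroup.mem_sup_left hm⟩
  have hψ₀1 : ψ₀ 1 = θ 1 := by
    have h1 := hψ₀v 1 (one_mem _) 1 (one_mem _)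
    have e : (⟨(1 : Y) * 1, mul_mem (le_sup_left (b := Z) (one_mem (MJ cs h X J)))
        (le_sup_right (a := MJ cs h X J) (one_mem Z))⟩ : ↥(MJ cs h X J ⊔ Z)) = 1 := Subtype.ext (mul_one _)
    rw [e] at h1
    rw [h1]
    have e2 : l ⟨1, one_mem Z⟩ = 1 := map_one l
    rw [e2, Units.val_one, mul_one]
    rfl
  have hψ₀M : ∀ (a : Y) (ha : a ∈ MJ cs h X J), ψ₀ ⟨a, Subgroup.mem_sup_left ha⟩ = θ ⟨a, ha⟩ := by
    intro a ha
    have h1 := hψ₀v a ha 1 (one_mem _)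
    have e2 : l ⟨1, one_mem Z⟩ = 1 := map_one l
    rw [e2, Units.val_one] at h1
    rw [← mul_one (θ ⟨a, ha⟩), ← h1]
    congr 1
    exact Subtype.ext (mul_one _).symm
  have hψ₀Z : ∀ (z : Y) (hz : z ∈ Z), ψ₀ ⟨z, Subgroup.mem_sup_right hz⟩ = θ 1 * l ⟨z, hz⟩ := by
    intro z hz
    have h1 := hψ₀v 1 (one_mem _) z hz
    rw [show (⟨1, one_mem _⟩ : ↥(MJ cs h X J)) = 1 from rfl] at h1
    rw [← h1]
    congr 1
    exact Subtype.ext (one_mul _).symm
  -- the conjugates are conjugates under the torus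
  have hsT : ∀ φ ∈ s, ∃ t, ∃ ht : t ∈ T, ρ φ = θ ∘ conjME (MJ cs h X J) (T_le_normalizer_MJ R J ht) := by
    intro φ hφ
    obtain ⟨g, hg, hgφ⟩ := hsφ φ hφ
    obtain ⟨m, hm, t, ht, rfl⟩ := (mem_LJ_iff_mul' R J).1 hg
    refine ⟨t, ht, ?_⟩
    funext x
    obtain ⟨hx', e⟩ := hgφ x (Subgroup.mem_sup_left x.2)
    rw [hρ]
    change φ ⟨x, Subgroup.mem_sup_left x.2⟩ = _
    have hx'' : m * t * (x : Y) * (m * t)⁻¹ ∈ MJ cs h X J := by
      have hgn := LJ_le_normalizer_MJ R J hg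
      exact (Subgroup.mem_normalizer_iff.1 hgn _).1 x.2
    rw [e, hψ₀M _ hx'', Function.comp_apply]
    have h1 := Core.isIrr_isClassFunction hθ (conjME (MJ cs h X J) (T_le_normalizer_MJ R J ht) x) ⟨m, hm⟩
    rw [← h1]
    congr 1
    apply Subtype.ext
    simp only [conjME_coe, Subgroup.coe_mul, InvMemClass.coe_inv]
    group
  -- the central character
  have hψZ : ∀ z : Z, ψ ⟨z, hZL z.2⟩ = ψ 1 * l z := by
    intro z
    have h1 : ∀ φ ∈ s, φ ⟨z, Subgroup.mem_sup_right z.2⟩ = φ 1 * l z := by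
      intro φ hφ
      obtain ⟨g, hg, hgφ⟩ := hsφ φ hφ
      obtain ⟨hx', e⟩ := hgφ z (Subgroup.mem_sup_right z.2)
      obtain ⟨hy', e'⟩ := hgφ 1 (one_mem _)
      have e1 : (⟨g * z * g⁻¹, hx'⟩ : ↥(MJ cs h X J ⊔ Z)) = ⟨z, Subgroup.mem_sup_right z.2⟩ := by
        apply Subtype.ext
        change g * z * g⁻¹ = z
        rw [Subgroup.mem_center_iff.1 (hZ z.2) g, mul_inv_cancel_right]
      have e2 : (⟨g * 1 * g⁻¹, hy'⟩ : ↥(MJ cs h X J ⊔ Z)) = 1 := by
        apply Subtype.ext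
        change g * 1 * g⁻¹ = 1
        group
      rw [e, e1, hψ₀Z z z.2]
      change _ = φ ⟨1, one_mem _⟩ * _
      rw [e', e2, hψ₀1]
    have h2 : ψ ⟨z, hZL z.2⟩ = c * ∑ φ ∈ s, φ ⟨z, Subgroup.mem_sup_right z.2⟩ := hres ⟨z, Subgroup.mem_sup_right z.2⟩
    have h3 : ψ 1 = c * ∑ φ ∈ s, φ 1 := hres 1
    rw [h2, h3, Finset.sum_congr rfl h1, ← Finset.sum_mul, mul_assoc]
  have hZP : ∀ z : Z, (z : Y) ∈ PJ cs h T X J := fun z => LJ_le_PJ (hZL z.2)
  have hψ'Z : ∀ z : Z, ψ' ⟨z, hZP z⟩ = ψ' 1 * l z := by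
    intro z
    rw [hψL _ (hZL z.2), hψZ]
    congr 1
    exact (hψL 1 (one_mem _)).symm
  have hindZ : ∀ z : Z, indFun (PJ cs h T X J) ψ' z = indFun (PJ cs h T X J) ψ' 1 * l z := by
    intro z
    have h1 : ∀ g : Y, extendByZero (PJ cs h T X J) ψ' (g⁻¹ * z * g) =
        extendByZero (PJ cs h T X J) ψ' (g⁻¹ * 1 * g) * l z := by
      intro g
      have e1 : g⁻¹ * (z : Y) * g = z := by
        rw [Subgroup.mem_center_iff.1 (hZ z.2) g⁻¹, inv_mul_cancel_right]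
      have e2 : g⁻¹ * (1 : Y) * g = 1 := by group
      rw [e1, e2]
      unfold extendByZero
      have h2 : Function.extend Subtype.val ψ' (fun _ => (0 : ℂ)) ((⟨z, hZP z⟩ : PJ cs h T X J) : Y) =
          ψ' ⟨z, hZP z⟩ := Subtype.val_injective.extend_apply _ _ _
      have h3 : Function.extend Subtype.val ψ' (fun _ => (0 : ℂ)) ((1 : PJ cs h T X J) : Y) =
          ψ' 1 := Subtype.val_injective.extend_apply _ _ _
      refine h2.trans ?_
      rw [hψ'Z]
      exact congrArg (· * ((l z : ℂˣ) : ℂ)) h3.symm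
    change (Nat.card (PJ cs h T X J) : ℂ)⁻¹ * ∑ g : Y, extendByZero (PJ cs h T X J) ψ' (g⁻¹ * z * g) =
      (Nat.card (PJ cs h T X J) : ℂ)⁻¹ * (∑ g : Y, extendByZero (PJ cs h T X J) ψ' (g⁻¹ * 1 * g)) * l z
    rw [Finset.sum_congr rfl fun g _ => h1 g, ← Finset.sum_mul, mul_assoc]
  refine ⟨indFun (PJ cs h T X J) ψ', ?_, hindZ, k, hk, ?_⟩
  · refine isIrr_indFun_rgd R hG J hψ' hψV ?_ ?_
    · intro i hi hf
      have h1 : ∀ u : rad cs h X J i, ψ' ⟨u, rad_le_PJ J i u.2⟩ = c * ∑ φ ∈ s, ρ φ ⟨u, rad_le_MJ J i u.2⟩ :=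
        fun u => hres' u (rad_le_MJ J i u.2)
      rw [Finset.sum_congr rfl fun u _ => h1 u, ← Finset.mul_sum, Finset.sum_comm]
      rw [Finset.sum_eq_zero, mul_zero]
      intro φ hφ
      obtain ⟨t, ht, e⟩ := hsT φ hφ
      rw [← hc i hi]
      simp only [e]
      exact Fintype.sum_equiv (conjME (rad cs h X J i) (T_le_normalizer_rad R J i ht)).toEquiv _ _ fun u => rfl
    · intro w g hg hw hp
      have hgn := inv_mem (rp_mem_normalizer_MJ R hg hp)
      refine ⟨MJ cs h X J, le_trans (MJ_le_LJ J) LJ_le_PJ,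
        fun l hl => LJ_le_PJ (MJ_le_LJ J (conj_mem_MJ R hg hp hl)), ?_⟩
      intro hf
      have h1 : ∀ l : MJ cs h X J, ψ' ⟨l, LJ_le_PJ (MJ_le_LJ J l.2)⟩ *
          conj (ψ' ⟨g⁻¹ * l * g, LJ_le_PJ (MJ_le_LJ J (conj_mem_MJ R hg hp l.2))⟩) =
          ∑ φ ∈ s, ∑ φ' ∈ s, (c * conj c) * (ρ φ l * conj ((ρ φ' ∘ conjME (MJ cs h X J) hgn) l)) := by
        intro l
        have e2 : (⟨g⁻¹ * l * g, conj_mem_MJ R hg hp l.2⟩ : MJ cs h X J) = conjME (MJ cs h X J) hgn l := by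
          apply Subtype.ext
          rw [conjME_coe, inv_inv]
        rw [hres' l l.2, hres' _ (conj_mem_MJ R hg hp l.2), e2, map_mul, map_sum]
        simp only [← Finset.mul_sum, Function.comp_apply]
        rw [← Finset.sum_mul]
        ring
      rw [Finset.sum_congr rfl fun l _ => h1 l, Finset.sum_comm]
      refine Finset.sum_eq_zero fun φ hφ => ?_
      rw [Finset.sum_comm]
      refine Finset.sum_eq_zero fun φ' hφ' => ?_
      rw [← Finset.mul_sum]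
      obtain ⟨t, ht, e⟩ := hsT φ hφ
      obtain ⟨t', ht', e'⟩ := hsT φ' hφ'
      rw [e, e']
      have hne : θ ∘ conjME (MJ cs h X J) (T_le_normalizer_MJ R J ht) ≠
          (θ ∘ conjME (MJ cs h X J) (T_le_normalizer_MJ R J ht')) ∘ conjME (MJ cs h X J) hgn := by
        intro he
        have hg' : Rp cs R.nsys w (t * g * t'⁻¹) := by
          have h2 := ((rp_of_mem (cs := cs) (hN := R.nsys) ht).mul hg).mul
            (rp_of_mem (cs := cs) (hN := R.nsys) (inv_mem ht'))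
          rwa [one_mul, mul_one] at h2
        obtain ⟨m, hm, hne⟩ := hs w _ hg' hw hp
        apply hne
        have h3 := congrFun he (conjME (MJ cs h X J) (inv_mem (T_le_normalizer_MJ R J ht)) ⟨m, hm⟩)
        simp only [Function.comp_apply] at h3
        refine Eq.trans ?_ (h3.symm.trans ?_)
        · congr 1
          apply Subtype.ext
          simp only [conjME_coe]
          group
        · congr 1
          apply Subtype.ext
          simp only [conjME_coe]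
          group
      have hi1 : IsIrrCharacter _ (θ ∘ conjME (MJ cs h X J) (T_le_normalizer_MJ R J ht)) :=
        Core.isIrr_comp (conjME _ (T_le_normalizer_MJ R J ht)).toMonoidHom (MulEquiv.surjective _) hθ
      have hi2 : IsIrrCharacter _ (θ ∘ conjME (MJ cs h X J) (T_le_normalizer_MJ R J ht')) :=
        Core.isIrr_comp (conjME _ (T_le_normalizer_MJ R J ht')).toMonoidHom (MulEquiv.surjective _) hθ
      have hi3 : IsIrrCharacter _ ((θ ∘ conjME (MJ cs h X J) (T_le_normalizer_MJ R J ht')) ∘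
          conjME (MJ cs h X J) hgn) :=
        Core.isIrr_comp (conjME _ hgn).toMonoidHom (MulEquiv.surjective _) hi2
      have h4 := Core.classInner_irr_ne hi1 hi3 hne
      rw [Core.classInner_def, mul_eq_zero] at h4
      rcases h4 with h4 | h4
      · exact absurd (inv_eq_zero.1 h4) Core.card_ne_zero_complex
      · rw [mul_eq_zero]
        exact Or.inr h4
  · rw [indFun_one]
    congr 1
    rw [← hψ₀1, ← hk1]
    exact hψL 1 (one_mem _)

/-- **One component of type `A_2`.** -/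
theorem exists_irr_one_over [Finite W] [Fintype Y] (hG : GG cs h T X = ⊤) {J K K' : Set I} {j : I}
    (hJ : ∀ i, i ∈ J ↔ i ≠ j) (hJK : J = K ∪ K') (ho : Orth A K K') {k₀ k₁ : I} (hK : K = {k₀, k₁})
    (hk : IsoPair A J k₀ k₁) (hk1 : A k₁ j = 0) (h3 : ¬ (3 : ℤ) ∣ A k₀ j)
    (hun : ∀ a b, IsoPair A J a b → (a = k₀ ∧ b = k₁) ∨ (a = k₁ ∧ b = k₀))
    {θ : ↥(MJ cs h X K) → ℂ} (hθ : Cusp cs h X K θ) (hns : NonSwap cs h X K k₀ k₁ θ)
    {θ' : ↥(MJ cs h X K') → ℂ} (hθ' : Cusp cs h X K' θ')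
    {Z : Subgroup Y} (hZ : Z ≤ Subgroup.center Y) (hZT : Z ≤ T) (hZM : ∀ z ∈ Z, z ∈ MJ cs h X J → z = 1)
    (l : Z →* ℂˣ) :
    ∃ χ : Y → ℂ, IsIrrCharacter Y χ ∧ (∀ z : Z, χ z = χ 1 * l z) ∧
      ∃ k : ℕ, 0 < k ∧ χ 1 = (PJ cs h T X J).index * (k * (θ 1 * θ' 1)) := by
  subst hJK
  obtain ⟨ψ, hψ, hval⟩ := hθ.exists_prod R ho hθ'
  have hval1 : ψ 1 = θ 1 * θ' 1 := by
    obtain ⟨hab, e⟩ := hval 1 (one_mem _) 1 (one_mem _)
    simp only [mul_one] at e
    exact e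
  rw [← hval1]
  refine exists_irr_over R hG (K ∪ K') hψ.irr hψ.van ?_ hZ hZT l ?_
  · intro w g hg hw hp
    obtain ⟨h0, h1⟩ := swap_of_iso hJ hk hk1 h3 hun hp hw
    exact not_stable_swap R rfl ho hK hns hθ'.irr hval hg hp h0 h1
  · intro z hz hm
    obtain rfl := hZM z hz hm
    have e2 : l ⟨1, hz⟩ = 1 := map_one l
    rw [e2, Units.val_one, mul_one]
    rfl

/-- **No condition**, if no element of `W ∖ W_J` permutes the simple roots of `J`. -/
theorem exists_irr_free_over [Finite W] [Fintype Y] (hG : GG cs h T X = ⊤) {J K K' : Set I}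
    (hno : ∀ w : W, w ∉ WJ cs J → ¬ Perm cs h J w) (hJK : J = K ∪ K') (ho : Orth A K K')
    {θ : ↥(MJ cs h X K) → ℂ} (hθ : Cusp cs h X K θ) {θ' : ↥(MJ cs h X K') → ℂ} (hθ' : Cusp cs h X K' θ')
    {Z : Subgroup Y} (hZ : Z ≤ Subgroup.center Y) (hZT : Z ≤ T) (hZM : ∀ z ∈ Z, z ∈ MJ cs h X J → z = 1)
    (l : Z →* ℂˣ) :
    ∃ χ : Y → ℂ, IsIrrCharacter Y χ ∧ (∀ z : Z, χ z = χ 1 * l z) ∧
      ∃ k : ℕ, 0 < k ∧ χ 1 = (PJ cs h T X J).index * (k * (θ 1 * θ' 1)) := by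
  subst hJK
  obtain ⟨ψ, hψ, hval⟩ := hθ.exists_prod R ho hθ'
  have hval1 : ψ 1 = θ 1 * θ' 1 := by
    obtain ⟨hab, e⟩ := hval 1 (one_mem _) 1 (one_mem _)
    simp only [mul_one] at e
    exact e
  rw [← hval1]
  refine exists_irr_over R hG (K ∪ K') hψ.irr hψ.van ?_ hZ hZT l ?_
  · intro w g hg hw hp
    exact absurd hp (hno w hw)
  · intro z hz hm
    obtain rfl := hZM z hz hm
    have e2 : l ⟨1, hz⟩ = 1 := map_one l
    rw [e2, Units.val_one, mul_one]
    rfl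

end Cfsg.Agent.H908.RIM
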